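import Mathlib
import Groth.Agent.VarDim.Algebra

/-!
# Cutting down the number of variables of a unirational parametrisation

An injection of a domain `A` of finite type over an infinite field `k` into a localisation of `k[x₁..xₙ]`
can be replaced by one with `n = dim A`.
-/

set_option autoImplicit false

universe u

open MvPolynomial

namespace Groth.Agent.UniRat93

variable {k : Type u} [Field k]

/-- A constructible subset of the spectrum of a domain containing the generic point contains a nonempty
basic open. -/
theorem exists_basicOpen_subset {B : Type u} [CommRing B] [IsDomain B] {s : Set (PrimeSpectrum B)}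
    (hs : Topology.IsConstructible s) (hbot : ⟨⊥, Ideal.isPrime_bot⟩ ∈ s) :
    ∃ g : B, g ≠ 0 ∧ ∀ p : PrimeSpectrum B, g ∉ p.asIdeal → p ∈ s := by
  obtain ⟨S, rfl⟩ := PrimeSpectrum.exists_constructibleSetData_iff.2 hs
  simp only [PrimeSpectrum.ConstructibleSetData.toSet, Set.mem_iUnion] at hbot
  obtain ⟨C, hC, h1, h2⟩ := hbot
  have hg : ∀ i, C.g i = 0 := fun i => by
    have := h1 ⟨i, rfl⟩
    simpa using this
  have hf : C.f ≠ 0 := fun h => h2 (by simp [h])
  refine ⟨C.f, hf, fun p hp => ?_⟩
  simp only [PrimeSpectrum.ConstructibleSetData.toSet, Set.mem_iUnion]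
  refine ⟨C, hC, ?_, fun h => hp (h rfl)⟩
  rintro _ ⟨i, rfl⟩
  rw [hg i]
  exact p.asIdeal.zero_mem

/-- One variable can be specialised away. -/
theorem drop_one [Infinite k] (A : Type u) [CommRing A] [IsDomain A] [Algebra k A] [Algebra.FiniteType k A]
    (l : ℕ) (h : MvPolynomial (Fin (l + 1)) k) (hh : h ≠ 0) (φ : A →ₐ[k] Localization.Away h)
    (i : Fin (l + 1))
    (hi : letI := φ.toRingHom.toAlgebra
      Transcendental A (algebraMap (MvPolynomial (Fin (l + 1)) k) (Localization.Away h) (X i))) :
    ∃ (h' : MvPolynomial (Fin l) k) (φ' : A →ₐ[k] Localization.Away h'), h' ≠ 0 ∧ Function.Injective φ' := by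
  classical
  let P := MvPolynomial (Fin (l + 1)) k
  let R := Localization.Away h
  letI : Algebra A R := φ.toRingHom.toAlgebra
  haveI : IsScalarTower k A R := IsScalarTower.of_algebraMap_eq fun c => (φ.commutes c).symm
  haveI : IsDomain R := IsLocalization.isDomain_localization (powers_le_nonZeroDivisors_of_noZeroDivisors hh)
  haveI : IsNoetherianRing A := Algebra.FiniteType.isNoetherianRing k A
  haveI : Algebra.FiniteType P R := IsLocalization.finiteType_of_monoid_fg (Submonoid.powers h) R
  haveI : Algebra.FiniteType k R := Algebra.FiniteType.trans (R := k) (S := P) inferInstance inferInstance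
  let x : R := algebraMap P R (X i)
  let τ : Polynomial A →ₐ[A] R := Polynomial.aeval x
  have hτ : Function.Injective τ := transcendental_iff_injective.1 hi
  have hfp : τ.toRingHom.FinitePresentation := by
    refine RingHom.FinitePresentation.of_finiteType.1 ?_
    refine RingHom.FiniteType.of_comp_finiteType (f := algebraMap k (Polynomial A)) ?_
    have : τ.toRingHom.comp (algebraMap k (Polynomial A)) = algebraMap k R :=
      RingHom.ext fun c => (τ.restrictScalars k).commutes c
    rw [this, RingHom.finiteType_algebraMap]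
    infer_instance
  have hbot : (⟨⊥, Ideal.isPrime_bot⟩ : PrimeSpectrum (Polynomial A)) ∈
      Set.range (PrimeSpectrum.comap τ.toRingHom) :=
    ⟨⟨⊥, Ideal.isPrime_bot⟩, PrimeSpectrum.ext (Ideal.comap_bot_of_injective _ hτ)⟩
  obtain ⟨g, hg, hgs⟩ := exists_basicOpen_subset (PrimeSpectrum.isConstructible_range_comap hfp) hbot
  have hinj : Function.Injective (algebraMap k A) := (algebraMap k A).injective
  obtain ⟨a, ha⟩ : ∃ a : k, g.eval (algebraMap k A a) ≠ 0 := by
    by_contra hall
    push Not at hall
    exact hg (g.eq_zero_of_infinite_isRoot (Set.Infinite.mono (by rintro _ ⟨c, rfl⟩; exact hall c)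
      (Set.infinite_range_of_injective hinj)))
  let p : PrimeSpectrum (Polynomial A) :=
    ⟨RingHom.ker (Polynomial.evalRingHom (algebraMap k A a)), RingHom.ker_isPrime _⟩
  obtain ⟨q, hq⟩ := hgs p ha
  have hq0 : ∀ y : A, φ y ∈ q.asIdeal → y = 0 := by
    intro y hy
    have h1 : Polynomial.C y ∈ p.asIdeal := by
      rw [← hq]
      show τ (Polynomial.C y) ∈ q.asIdeal
      rwa [Polynomial.aeval_C]
    simpa [p] using h1
  have hxa : algebraMap P R (X i - C a) ∈ q.asIdeal := by
    have h1 : Polynomial.X - Polynomial.C (algebraMap k A a) ∈ p.asIdeal := by simp [p]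
    rw [← hq] at h1
    have h2 : τ (Polynomial.X - Polynomial.C (algebraMap k A a)) ∈ q.asIdeal := h1
    rw [map_sub, Polynomial.aeval_X, Polynomial.aeval_C, ← IsScalarTower.algebraMap_apply] at h2
    rwa [map_sub, ← MvPolynomial.algebraMap_eq, ← IsScalarTower.algebraMap_apply]
  let Q : Ideal P := q.asIdeal.comap (algebraMap P R)
  let σ : P →ₐ[k] MvPolynomial (Fin l) k := aeval (i.insertNth (C a) X)
  let ι : MvPolynomial (Fin l) k →ₐ[k] P := rename i.succAbove
  have hker : ∀ z : P, σ z = 0 → z ∈ Q := by
    have heq : (Ideal.Quotient.mkₐ k Q).comp (ι.comp σ) = Ideal.Quotient.mkₐ k Q := by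
      refine MvPolynomial.algHom_ext fun j => ?_
      show Ideal.Quotient.mk Q (ι (σ (X j))) = Ideal.Quotient.mk Q (X j)
      obtain rfl | ⟨j, rfl⟩ := i.eq_self_or_eq_succAbove j
      · rw [show σ (X j) = C a from (aeval_X _ _).trans (Fin.insertNth_apply_same _ _ _),
          show ι (C a) = C a from rename_C _ _, Ideal.Quotient.eq]
        have := Q.neg_mem (show X j - C a ∈ Q from hxa)
        rwa [neg_sub] at this
      · rw [show σ (X (i.succAbove j)) = X j from (aeval_X _ _).trans (Fin.insertNth_apply_succAbove _ _ _ _),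
          show ι (X j) = X (i.succAbove j) from rename_X _ _]
    intro z hz
    rw [← Ideal.Quotient.eq_zero_iff_mem]
    have := DFunLike.congr_fun heq z
    simp only [AlgHom.comp_apply, hz, map_zero] at this
    exact this.symm
  have hhQ : h ∉ Q := fun hmem => q.isPrime.ne_top
    (Ideal.eq_top_of_isUnit_mem _ hmem (IsLocalization.Away.algebraMap_isUnit h))
  have hσh : σ h ≠ 0 := fun h0 => hhQ (hker h h0)
  let R' := Localization.Away (σ h)
  have hunit : ∀ y : Submonoid.powers h, IsUnit (((IsScalarTower.toAlgHom k (MvPolynomial (Fin l) k) R').comp σ) y) := by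
    rintro ⟨_, n, rfl⟩
    simp only [AlgHom.comp_apply, map_pow]
    exact (IsLocalization.Away.algebraMap_isUnit (σ h)).pow n
  let Φ : R →ₐ[k] R' := IsLocalization.liftAlgHom hunit
  have hΦ : ∀ z : P, Φ (algebraMap P R z) = algebraMap _ R' (σ z) := fun z => IsLocalization.lift_eq _ z
  refine ⟨σ h, Φ.comp φ, hσh, ?_⟩
  rw [injective_iff_map_eq_zero]
  intro y hy
  refine hq0 y ?_
  obtain ⟨z, s, hzs⟩ := IsLocalization.exists_mk'_eq (Submonoid.powers h) (φ y)
  have hz : algebraMap P R z = φ y * algebraMap P R s := by rw [← hzs, IsLocalization.mk'_spec]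
  have h0 : algebraMap (MvPolynomial (Fin l) k) R' (σ z) = 0 := by
    rw [← hΦ, hz, map_mul, show Φ (φ y) = 0 from hy, zero_mul]
  have hinj' : Function.Injective (algebraMap (MvPolynomial (Fin l) k) R') :=
    IsLocalization.injective R' (powers_le_nonZeroDivisors_of_noZeroDivisors hσh)
  have h1 : algebraMap P R z ∈ q.asIdeal := hker z (hinj' (h0.trans (map_zero _).symm))
  rw [hz] at h1
  refine (q.isPrime.mem_or_mem h1).resolve_right fun hs => ?_
  obtain ⟨n, hn⟩ := s.2
  exact q.isPrime.ne_top (Ideal.eq_top_of_isUnit_mem _ hs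
    (IsLocalization.map_units R s))

/-- The number of variables can be taken to be the dimension. -/
theorem drop_to_dim [Infinite k] (A : Type u) [CommRing A] [IsDomain A] [Algebra k A] [Algebra.FiniteType k A] :
    ∀ (n : ℕ) (h : MvPolynomial (Fin n) k) (φ : A →ₐ[k] Localization.Away h), h ≠ 0 → Function.Injective φ →
      ∃ (m : ℕ) (h' : MvPolynomial (Fin m) k) (φ' : A →ₐ[k] Localization.Away h'),
        h' ≠ 0 ∧ Function.Injective φ' ∧ ringKrullDim A = m := by
  intro n
  induction n using Nat.strong_induction_on with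
  | _ n ih =>
  intro h φ hh hφ
  let R := Localization.Away h
  let P := MvPolynomial (Fin n) k
  letI : Algebra A R := φ.toRingHom.toAlgebra
  haveI : IsScalarTower k A R := IsScalarTower.of_algebraMap_eq fun c => (φ.commutes c).symm
  haveI : IsDomain R := IsLocalization.isDomain_localization (powers_le_nonZeroDivisors_of_noZeroDivisors hh)
  haveI : FaithfulSMul A R := (faithfulSMul_iff_algebraMap_injective _ _).2 hφ
  by_cases H : ∀ i, IsAlgebraic A (algebraMap P R (X i))
  · haveI : FaithfulSMul P R := (faithfulSMul_iff_algebraMap_injective _ _).2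
      (IsLocalization.injective R (powers_le_nonZeroDivisors_of_noZeroDivisors hh))
    have hP : ∀ z : P, IsAlgebraic A (algebraMap P R z) := by
      intro z
      induction z using MvPolynomial.induction_on with
      | C c =>
        rw [← MvPolynomial.algebraMap_eq, ← IsScalarTower.algebraMap_apply, IsScalarTower.algebraMap_apply k A R]
        exact isAlgebraic_algebraMap _
      | add p q hp hq => rw [map_add]; exact hp.add hq
      | mul_X p j hp => rw [map_mul]; exact hp.mul (H j)
    haveI : Algebra.IsAlgebraic A R := ⟨fun w => by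
      obtain ⟨z, s, rfl⟩ := IsLocalization.exists_mk'_eq (Submonoid.powers h) w
      refine IsAlgebraic.of_mul (mem_nonZeroDivisors_of_ne_zero (IsLocalization.map_units R s).ne_zero) (hP s) ?_
      rw [mul_comm, IsLocalization.mk'_spec]
      exact hP z⟩
    haveI : Algebra.IsAlgebraic P R := ⟨fun w => by
      obtain ⟨z, s, rfl⟩ := IsLocalization.exists_mk'_eq (Submonoid.powers h) w
      refine IsAlgebraic.of_mul (mem_nonZeroDivisors_of_ne_zero (IsLocalization.map_units R s).ne_zero)
        (isAlgebraic_algebraMap _) ?_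
      rw [mul_comm, IsLocalization.mk'_spec]
      exact isAlgebraic_algebraMap _⟩
    refine ⟨n, h, φ, hh, hφ, VarDim.ringKrullDim_eq_of_trdeg_eq k A ?_⟩
    have h1 := trdeg_add_eq k A (A := R)
    have h2 := trdeg_add_eq k P (A := R)
    rw [trdeg_eq_zero (R := A) (A := R), add_zero] at h1
    rw [trdeg_eq_zero (R := P) (A := R), add_zero, MvPolynomial.trdeg_of_isDomain] at h2
    rw [h1, ← h2]
    simp
  · push Not at H
    obtain ⟨i, hi⟩ := H
    obtain _ | l := n
    · exact i.elim0
    obtain ⟨h', φ', hh', hφ'⟩ := drop_one A l h hh φ i hi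
    exact ih l (Nat.lt_succ_self l) h' φ' hh' hφ'

end Groth.Agent.UniRat93
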